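import Cfsg.Agent.H487.Gen.A67
import Cfsg.Agent.H440.TwoGen.Alt

/-!
# TEAM GEN: `ASRows.alt` (helper487)

Groups `G` with a normal subgroup `T ≅ A_n`, `C_G(T) = 1`, `n ≥ 5`, are 2-generated.
-/

set_option autoImplicit false

namespace Cfsg.Agent.H487.Gen.AltRow

open Cfsg.Agent.H440.TwoGen Cfsg.Agent.H891.Gen Subgroup Equiv

universe u v

theorem twoGen_perm (n : ℕ) (hn : 2 ≤ n) : TwoGen (Perm (Fin n)) := by
  obtain ⟨m, rfl⟩ : ∃ m, n = m + 2 := ⟨n - 2, by omega⟩
  refine ⟨finRotate (m + 2), Equiv.swap 0 (finRotate (m + 2) 0), ?_⟩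
  exact Perm.closure_cycle_adjacent_swap isCycle_finRotate support_finRotate 0

/-- the subgroups of `Aut A_n` containing the inner automorphisms, `n ≠ 6` -/
theorem twoGen_sub (n : ℕ) (hn : 5 ≤ n) (h6 : n ≠ 6) (S : Subgroup (MulAut ↥(alternatingGroup (Fin n))))
    (hS : (MulAut.conj : ↥(alternatingGroup (Fin n)) →* MulAut ↥(alternatingGroup (Fin n))).range ≤ S) :
    TwoGen ↥S := by
  let f : Perm (Fin n) ≃* MulAut ↥(alternatingGroup (Fin n)) :=
    MulEquiv.ofBijective MulAut.conjNormal (Cfsg.Agent.S2119.result n (by omega) h6)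
  have hA : alternatingGroup (Fin n) ≤ S.comap (f : Perm (Fin n) →* MulAut ↥(alternatingGroup (Fin n))) := by
    intro x hx
    rw [mem_comap]
    have h1 : (f : Perm (Fin n) →* MulAut ↥(alternatingGroup (Fin n))) x = MulAut.conj ⟨x, hx⟩ := by
      ext y
      rfl
    rw [h1]
    exact hS ⟨_, rfl⟩
  have hnt : Nontrivial (Fin n) := Fin.nontrivial_iff_two_le.2 (by omega)
  have key : TwoGen ↥(S.comap (f : Perm (Fin n) →* MulAut ↥(alternatingGroup (Fin n)))) := by
    have h2 : (S.comap (f : Perm (Fin n) →* MulAut ↥(alternatingGroup (Fin n)))).index ∣ 2 := by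
      have h3 := index_dvd_of_le hA
      rwa [alternatingGroup.index_eq_two] at h3
    rcases (Nat.dvd_prime Nat.prime_two).1 h2 with h3 | h3
    · rw [index_eq_one] at h3
      rw [h3]
      exact TwoGen.of_equiv Subgroup.topEquiv.symm (twoGen_perm n (by omega))
    · rw [Perm.eq_alternatingGroup_of_index_eq_two h3]
      exact Alt.twoGen_fin hn
  have e : ↥(S.comap (f : Perm (Fin n) →* MulAut ↥(alternatingGroup (Fin n)))) ≃* ↥S :=
    (f.subgroupMap _).trans (MulEquiv.subgroupCongr (map_comap_eq_self_of_surjective f.surjective S))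
  exact TwoGen.of_equiv e key

theorem twoGen_alt {G : Type u} [Group G] {T : Subgroup G} (hT : T.Normal) (hC : centralizer (T : Set G) = ⊥)
    (n : ℕ) (hn : 5 ≤ n) (e : T ≃* alternatingGroup (Fin n)) : TwoGen G := by
  by_cases h6 : n = 6
  · subst h6
    exact ASixSeven.twoGen_a6 hT hC e
  · exact Cfsg.Agent.H791.Gen.twoGen_of_aut T hC e fun S hS => twoGen_sub n hn h6 S hS

/-- **the field `ASRows.alt`** -/
theorem alt_row (G : Type u) (Ω : Type v) [Group G] [MulAction G Ω] (T : Subgroup G)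
    (A : Cfsg.Agent.H384.TwoTrans.AS G Ω T) (n : ℕ) (hn : 5 ≤ n) (e : Nonempty (↥T ≃* ↥(alternatingGroup (Fin n)))) :
    TwoGen G := by
  obtain ⟨e⟩ := e
  exact twoGen_alt A.normal A.cent n hn e

end Cfsg.Agent.H487.Gen.AltRow
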