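import Cfsg.Agent.H440.TwoGen.Basic

/-!
# TEAM GEN, piece J: almost simple groups with `|Out T| ≤ 2` (helper487)

`T` is a normal subgroup of `G` with trivial centralizer, `e : T ≃* M`:

* `twoGen_of_inner` : if all the automorphisms of `M` are inner then `G = T`;
* `twoGen_of_outer` : if `α` represents the only nontrivial class of outer automorphisms of `M` and
  `M = ⟨t, α t⟩` then `G` is 2-generated.
-/

set_option autoImplicit false

namespace Cfsg.Agent.H487.Gen

open Cfsg.Agent.H440.TwoGen Subgroup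

universe u v

variable {G : Type u} [Group G] {T : Subgroup G} {M : Type v} [Group M]

/-- the automorphism of `M` induced by `g` -/
noncomputable def ind (hT : T.Normal) (e : T ≃* M) (g : G) : MulAut M :=
  MulAut.congr e (@MulAut.conjNormal G _ T hT g)

theorem ind_apply (hT : T.Normal) (e : T ≃* M) (g : G) (t : T) :
    ind hT e g (e t) = e ⟨g * t * g⁻¹, hT.conj_mem t t.2 g⟩ := by
  change e (@MulAut.conjNormal G _ T hT g (e.symm (e t))) = _
  rw [e.symm_apply_apply]
  congr 1

theorem ind_mul (hT : T.Normal) (e : T ≃* M) (g h : G) : ind hT e (g * h) = ind hT e g * ind hT e h := by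
  rw [ind, ind, ind, map_mul, map_mul]

theorem ind_inv (hT : T.Normal) (e : T ≃* M) (g : G) : ind hT e g⁻¹ = (ind hT e g)⁻¹ := by
  rw [ind, ind, map_inv, map_inv]

theorem ind_of_mem (hT : T.Normal) (e : T ≃* M) (s : T) : ind hT e (s : G) = MulAut.conj (e s) := by
  apply MulEquiv.ext
  intro x
  obtain ⟨t, rfl⟩ := e.surjective x
  rw [ind_apply, MulAut.conj_apply, ← map_inv, ← map_mul, ← map_mul]
  rfl

theorem mem_of_ind (hT : T.Normal) (hC : centralizer (T : Set G) = ⊥) (e : T ≃* M) {g : G}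
    (h : ind hT e g ∈ (MulAut.conj : M →* MulAut M).range) : g ∈ T := by
  obtain ⟨m, hm⟩ := h
  obtain ⟨s, rfl⟩ := e.surjective m
  rw [← ind_of_mem hT e s] at hm
  have h1 : (s : G)⁻¹ * g ∈ centralizer (T : Set G) := by
    rw [mem_centralizer_iff]
    intro t ht
    have h2 := DFunLike.congr_fun hm (e ⟨t, ht⟩)
    rw [ind_apply, ind_apply] at h2
    have h3 := congrArg Subtype.val (e.injective h2)
    simp only at h3
    calc t * ((s : G)⁻¹ * g) = (s : G)⁻¹ * ((s : G) * t * (s : G)⁻¹) * g := by group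
      _ = (s : G)⁻¹ * (g * t * g⁻¹) * g := by rw [h3]
      _ = (s : G)⁻¹ * g * t := by group
  rw [hC, mem_bot, inv_mul_eq_one] at h1
  rw [← h1]
  exact s.2

theorem twoGen_of_eq_top (h : T = ⊤) (hM : TwoGen M) (e : T ≃* M) : TwoGen G :=
  (hM.of_equiv' ⟨e⟩).of_equiv ((MulEquiv.subgroupCongr h).trans Subgroup.topEquiv)

/-- all the automorphisms of `M` are inner -/
theorem twoGen_of_inner (hT : T.Normal) (hC : centralizer (T : Set G) = ⊥) (e : T ≃* M)
    (hin : ∀ φ : MulAut M, φ ∈ (MulAut.conj : M →* MulAut M).range) (hM : TwoGen M) : TwoGen G := by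
  refine twoGen_of_eq_top ?_ hM e
  rw [eq_top_iff]
  intro g _
  exact mem_of_ind hT hC e (hin _)

/-- `Out M` has at most two elements, `1` and the class of `α`, and `M = ⟨t, α t⟩`. -/
theorem twoGen_of_outer (hT : T.Normal) (hC : centralizer (T : Set G) = ⊥) (e : T ≃* M) (α : MulAut M)
    (hα : ∀ φ : MulAut M, φ ∈ (MulAut.conj : M →* MulAut M).range ∨ α * φ ∈ (MulAut.conj : M →* MulAut M).range)
    (t : M) (ht : closure ({t, α t} : Set M) = ⊤) : TwoGen G := by
  have hM : TwoGen M := ⟨t, α t, ht⟩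
  by_cases hall : ∀ g : G, ind hT e g ∈ (MulAut.conj : M →* MulAut M).range
  · refine twoGen_of_eq_top ?_ hM e
    rw [eq_top_iff]
    intro g _
    exact mem_of_ind hT hC e (hall g)
  push Not at hall
  obtain ⟨g, hg⟩ := hall
  obtain ⟨m, hm⟩ := (hα (ind hT e g)).resolve_left hg
  obtain ⟨s, rfl⟩ := e.surjective m
  rw [← ind_of_mem hT e s] at hm
  set h : G := s * g⁻¹ with hh
  have hind : ind hT e h = α := by
    rw [hh, ind_mul, ind_inv, hm, mul_inv_cancel_right]
  set τ : T := e.symm t with hτ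
  have hτ1 : t = e τ := by rw [hτ, e.apply_symm_apply]
  refine ⟨τ, h, ?_⟩
  have h1 : (τ : G) ∈ closure ({(τ : G), h} : Set G) := subset_closure (by simp)
  have h2 : h ∈ closure ({(τ : G), h} : Set G) := subset_closure (by simp)
  have h3 : h * τ * h⁻¹ ∈ closure ({(τ : G), h} : Set G) := mul_mem (mul_mem h2 h1) (inv_mem h2)
  have hTle : T ≤ closure ({(τ : G), h} : Set G) := by
    intro x hx
    have h4 : e ⟨x, hx⟩ ∈ closure ({t, α t} : Set M) := by rw [ht]; exact mem_top _
    have h5 : (closure ({t, α t} : Set M)).map (T.subtype.comp (e.symm : M →* T)) ≤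
        closure ({(τ : G), h} : Set G) := by
      rw [MonoidHom.map_closure, closure_le, Set.image_pair]
      have k1 : (T.subtype.comp (e.symm : M →* T)) t = τ := rfl
      have k2 : (T.subtype.comp (e.symm : M →* T)) (α t) = h * τ * h⁻¹ := by
        change ((e.symm (α t) : T) : G) = _
        rw [← hind, hτ1, ind_apply, e.symm_apply_apply]
      rw [k1, k2]
      rintro z (rfl | hz)
      · exact h1
      · rw [Set.mem_singleton_iff] at hz
        subst hz
        exact h3
    have h6 : (T.subtype.comp (e.symm : M →* T)) (e ⟨x, hx⟩) = x := by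
      change ((e.symm (e ⟨x, hx⟩) : T) : G) = _
      rw [e.symm_apply_apply]
    have h7 := h5 (mem_map_of_mem _ h4)
    rwa [h6] at h7
  rw [eq_top_iff]
  intro x _
  rcases hα (ind hT e x) with h4 | h4
  · exact hTle (mem_of_ind hT hC e h4)
  · rw [← hind, ← ind_mul] at h4
    have h5 := hTle (mem_of_ind hT hC e h4)
    exact (mul_mem_cancel_left h2).1 h5

/-- conjugation by `z`, restricted to `K` -/
def conjOn {P : Type v} [Group P] (K : Subgroup P) (z : P) (hz : ∀ q, q ∈ K ↔ z * q * z⁻¹ ∈ K) : MulAut K where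
  toFun q := ⟨z * q * z⁻¹, (hz q).1 q.2⟩
  invFun q := ⟨z⁻¹ * q * z, by rw [hz]; convert q.2 using 1; group⟩
  left_inv q := by
    apply Subtype.ext
    change z⁻¹ * (z * q * z⁻¹) * z = q
    group
  right_inv q := by
    apply Subtype.ext
    change z * (z⁻¹ * q * z) * z⁻¹ = q
    group
  map_mul' a b := by
    apply Subtype.ext
    change z * (a * b) * z⁻¹ = z * a * z⁻¹ * (z * b * z⁻¹)
    group

/-- `M = K` is a subgroup of `P` and all its automorphisms are induced by a subgroup `A` with `A = K ∪ z⁻¹ K`. -/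
theorem twoGen_of_conj (hT : T.Normal) (hC : centralizer (T : Set G) = ⊥) {P : Type v} [Group P] (K A : Subgroup P)
    (e : T ≃* K) (hφ : ∀ φ : MulAut K, ∃ p ∈ A, ∀ q : K, ((φ q : K) : P) = p * q * p⁻¹) (z : P)
    (hz : ∀ q, q ∈ K ↔ z * q * z⁻¹ ∈ K) (hA : ∀ p ∈ A, p ∈ K ∨ z * p ∈ K) (t : P) (ht : t ∈ K)
    (hgen : closure ({t, z * t * z⁻¹} : Set P) = K) : TwoGen G := by
  refine twoGen_of_outer hT hC e (conjOn K z hz) ?_ ⟨t, ht⟩ ?_
  · intro φ
    obtain ⟨p, hp, h⟩ := hφ φ
    rcases hA p hp with h1 | h1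
    · refine Or.inl ⟨⟨p, h1⟩, ?_⟩
      apply MulEquiv.ext
      intro q
      apply Subtype.ext
      rw [h q]
      rfl
    · refine Or.inr ⟨⟨z * p, h1⟩, ?_⟩
      apply MulEquiv.ext
      intro q
      apply Subtype.ext
      change z * p * q * (z * p)⁻¹ = z * ((φ q : K) : P) * z⁻¹
      rw [h q]
      group
  · apply Subgroup.map_injective K.subtype_injective
    rw [MonoidHom.map_closure, Set.image_pair]
    change closure ({t, z * t * z⁻¹} : Set P) = _
    rw [hgen, ← MonoidHom.range_eq_map, Subgroup.range_subtype]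

end Cfsg.Agent.H487.Gen
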